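import Mathlib.RingTheory.Kaehler.Basic
import Mathlib.RingTheory.MvPolynomial.Basic
import Mathlib.RingTheory.Kaehler.Polynomial
import Mathlib.Algebra.Module.LocalizedModule.Submodule
import Mathlib.RingTheory.Localization.AtPrime.Basic
import Mathlib.RingTheory.Nakayama
import Mathlib.RingTheory.Localization.Finiteness
import Mathlib.LinearAlgebra.TensorProduct.RightExactness

/-!
Vanishing of differentials at a point through a polynomial presentation.
-/

set_option autoImplicit false

namespace Groth.Agent.OmegaSpan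

universe u

open TensorProduct

variable (A P B : Type u) [CommRing A] [CommRing P] [CommRing B] [Algebra A P] [Algebra A B] [Algebra P B]
  [IsScalarTower A P B]

theorem ker_map_le (h : Function.Surjective (algebraMap P B)) :
    LinearMap.ker (KaehlerDifferential.map A A P B) ≤
      Submodule.span P (KaehlerDifferential.D A P '' (RingHom.ker (algebraMap P B) : Set P)) ⊔
        RingHom.ker (algebraMap P B) • (⊤ : Submodule P (Ω[P⁄A])) := by
  intro w hw
  set S := Submodule.span P (KaehlerDifferential.D A P '' (RingHom.ker (algebraMap P B) : Set P))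
  let J : Ω[P⁄A] →ₗ[P] B ⊗[P] Ω[P⁄A] := TensorProduct.mk P B (Ω[P⁄A]) 1
  have h0 : (1 : B) ⊗ₜ[P] w ∈ LinearMap.range (KaehlerDifferential.kerCotangentToTensor A P B) := by
    have := (KaehlerDifferential.exact_kerCotangentToTensor_mapBaseChange A P B h ((1 : B) ⊗ₜ[P] w)).1
      (by rw [KaehlerDifferential.mapBaseChange_tmul, one_smul]; exact hw)
    exact this
  obtain ⟨c, hc⟩ := h0
  obtain ⟨g, rfl⟩ := Ideal.toCotangent_surjective _ c
  rw [KaehlerDifferential.kerCotangentToTensor_toCotangent] at hc
  have h1 : w - KaehlerDifferential.D A P g.1 ∈ LinearMap.ker J := by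
    change J (w - KaehlerDifferential.D A P g.1) = 0
    rw [map_sub, sub_eq_zero]
    exact hc.symm
  have h2 : LinearMap.ker J ≤ RingHom.ker (algebraMap P B) • (⊤ : Submodule P (Ω[P⁄A])) := by
    intro x hx
    have h3 : (Algebra.linearMap P B).rTensor (Ω[P⁄A]) ((TensorProduct.lid P _).symm x) = 0 := by
      simpa [J] using hx
    have hex := rTensor_exact (Ω[P⁄A]) (LinearMap.exact_subtype_ker_map (Algebra.linearMap P B)) h
    obtain ⟨y, hy⟩ := (hex _).1 h3
    have h4 : x = TensorProduct.lid P _ ((LinearMap.ker (Algebra.linearMap P B)).subtype.rTensor (Ω[P⁄A]) y) := by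
      rw [hy, LinearEquiv.apply_symm_apply]
    subst h4
    clear hy h3 hx
    induction y using TensorProduct.induction_on with
    | zero => simp
    | tmul a z =>
      simp only [LinearMap.rTensor_tmul, TensorProduct.lid_tmul]
      exact Submodule.smul_mem_smul (show (a : P) ∈ RingHom.ker (algebraMap P B) from a.2) trivial
    | add p q hp hq => rw [map_add, map_add]; exact add_mem hp hq
  rw [← add_sub_cancel (KaehlerDifferential.D A P g.1) w]
  exact Submodule.add_mem_sup (Submodule.subset_span ⟨g.1, g.2, rfl⟩) (h2 h1)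

theorem subsingleton_iff_span (h : Function.Surjective (algebraMap P B)) [Module.Finite P (Ω[P⁄A])]
    (q : Ideal B) [q.IsPrime] :
    Subsingleton (LocalizedModule q.primeCompl (Ω[B⁄A])) ↔
      Submodule.span (Localization.AtPrime (q.comap (algebraMap P B)))
        ((LocalizedModule.mkLinearMap (q.comap (algebraMap P B)).primeCompl (Ω[P⁄A])) ''
          (KaehlerDifferential.D A P '' (RingHom.ker (algebraMap P B) : Set P))) = ⊤ := by
  set 𝔮 := q.comap (algebraMap P B)
  set S := Submodule.span P (KaehlerDifferential.D A P '' (RingHom.ker (algebraMap P B) : Set P))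
  set L := Localization.AtPrime 𝔮
  set ι := LocalizedModule.mkLinearMap 𝔮.primeCompl (Ω[P⁄A])
  set I := RingHom.ker (algebraMap P B)
  rw [← Submodule.localized'_span L 𝔮.primeCompl ι, LocalizedModule.subsingleton_iff]
  have hf := KaehlerDifferential.map_surjective_of_surjective A A P B h
  constructor
  · intro H
    have hle : (⊤ : Submodule L (LocalizedModule 𝔮.primeCompl (Ω[P⁄A]))) ≤
        S.localized' L 𝔮.primeCompl ι ⊔ IsLocalRing.maximalIdeal L • ⊤ := by
      rintro z -
      obtain ⟨⟨w, s⟩, rfl⟩ := IsLocalizedModule.mk'_surjective 𝔮.primeCompl ι z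
      obtain ⟨r, hr, hr0⟩ := H (KaehlerDifferential.map A A P B w)
      obtain ⟨r, rfl⟩ := h r
      have hw : r • w ∈ LinearMap.ker (KaehlerDifferential.map A A P B) := by
        rw [LinearMap.mem_ker, map_smul, ← IsScalarTower.algebraMap_smul B r, hr0]
      obtain ⟨a, ha, b, hb, hab⟩ := Submodule.mem_sup.1 (ker_map_le A P B h hw)
      let r' : 𝔮.primeCompl := ⟨r, hr⟩
      have hz : IsLocalizedModule.mk' ι w s = IsLocalizedModule.mk' ι (r • w) (r' * s) :=
        (IsLocalizedModule.mk'_cancel_left ι w r' s).symm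
      rw [Function.uncurry_apply_pair, hz, ← hab, IsLocalizedModule.mk'_add]
      refine Submodule.add_mem_sup ⟨a, ha, r' * s, rfl⟩ ?_
      clear hab
      have e := IsLocalizedModule.mk'_smul_mk' L ι (1 : P) b (r' * s) 1
      rw [one_smul, mul_one, IsLocalizedModule.mk'_one] at e
      rw [← e]
      refine Submodule.smul_mem _ _ ?_
      refine Submodule.smul_induction_on hb (fun c hc x _ => ?_) (fun x y hx hy => by rw [map_add]; exact add_mem hx hy)
      rw [map_smul, ← IsScalarTower.algebraMap_smul L c]
      refine Submodule.smul_mem_smul ((IsLocalization.AtPrime.to_map_mem_maximal_iff L 𝔮 c).2 ?_) trivial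
      show algebraMap P B c ∈ q
      rw [show algebraMap P B c = 0 from hc]; exact zero_mem q
    haveI : Module.Finite L (LocalizedModule 𝔮.primeCompl (Ω[P⁄A])) := Module.Finite.of_isLocalizedModule 𝔮.primeCompl ι
    exact top_le_iff.1 (Submodule.le_of_le_smul_of_le_jacobson_bot Module.Finite.fg_top
      (IsLocalRing.maximalIdeal_le_jacobson ⊥) hle)
  · intro H m
    obtain ⟨w, rfl⟩ := hf m
    obtain ⟨a, ha, s, hs⟩ := H.ge (Submodule.mem_top (x := ι w))
    rw [← IsLocalizedModule.mk'_one 𝔮.primeCompl ι w, IsLocalizedModule.mk'_eq_mk'_iff] at hs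
    obtain ⟨c, hc⟩ := hs
    refine ⟨algebraMap P B (c * s), (c * s).2, ?_⟩
    rw [IsScalarTower.algebraMap_smul B, ← map_smul]
    have hS : S ≤ LinearMap.ker (KaehlerDifferential.map A A P B) := by
      refine Submodule.span_le.2 ?_
      rintro _ ⟨g, hg, rfl⟩
      rw [SetLike.mem_coe, LinearMap.mem_ker, KaehlerDifferential.map_D, show algebraMap P B g = 0 from hg, map_zero]
    apply hS
    simp only [one_smul, Submonoid.smul_def] at hc
    rw [mul_smul, hc]
    exact S.smul_mem _ ha

end Groth.Agent.OmegaSpan
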